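import Groth.Agent.Lib.Lead.NF.Alg
import Groth.Agent.Lib.Helper2.FormalEq2
import Groth.Agent.Lib.Lead.FF.ML
import Groth.Agent.Lib.Lead.FF.Noeth
import Groth.Agent.Lib.Lead.FF.Rees
import Groth.Agent.Lib.Lead.QC.BiprodSec
import Groth.Agent.Lib.Lead.QC.SubExt
import Groth.Agent.Lib.Lead.PN.SerreDualExt
import Groth.Agent.Lib.Lead.CohLES.H0
import Groth.Agent.S0002

/-! # Lifting global sections from `F/𝔪F` to `F`

For `X` proper over a Noetherian local ring `(A, 𝔪)` and a coherent module `F` whose sections over a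
basis of affine opens are flat over `A`: if `H¹(X, F/𝔪F) = 0` then `Γ(X, F) → Γ(X, F/𝔪F)` is
surjective.  (The transition maps `Γ(F/𝔪^{k+1}F) → Γ(F/𝔪^kF)` are surjective because
`𝔪^kF/𝔪^{k+1}F` is a finite direct sum of copies of `F/𝔪F`, and the uniform Mittag-Leffler
property of `(H⁰(F/𝔪^kF))_k` does the rest.) -/

set_option autoImplicit false
universe u
open CategoryTheory Limits Opposite TopologicalSpace AlgebraicGeometry

namespace Groth.Agent.LD.NF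

open Groth.Agent.LD Groth.Agent.LD.FF Groth.Agent.H2.FormalQ Groth.Agent.H2.FormalEq

variable {A : Type u} [CommRing A] {X : Scheme.{u}} [X.Over (Spec (CommRingCat.of A))]

variable (A) in
/-- the sections of `F` over `U` form a flat `A`-module. -/
def FlatSec (F : X.Modules) (U : X.Opens) : Prop :=
  letI : Module A Γ(F, U) := Module.compHom _ (φU (A := A) U)
  Module.Flat A Γ(F, U)

lemma FlatSec.rel {F : X.Modules} {U : X.Opens} (h : FlatSec A F U) (𝔪 J' : Ideal A) {r q : ℕ}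
    (c : Fin r → A) (d : Fin q → A) (hd : ∀ i, d i ∈ J')
    (hind : ∀ b : Fin r → A, ∑ j, b j * c j ∈ J' → ∀ j, b j ∈ 𝔪)
    (p : Fin r → Γ(F, U)) (p' : Fin q → Γ(F, U))
    (he : ∑ j, (Formal.smulMod A F (c j)).app U (p j) =
      ∑ i, (Formal.smulMod A F (d i)).app U (p' i)) (j : Fin r) :
    ∃ (k : ℕ) (e : Fin k → A) (y : Fin k → Γ(F, U)), (∀ l, e l ∈ 𝔪) ∧
      p j = ∑ l, (Formal.smulMod A F (e l)).app U (y l) := by
  letI : Module A Γ(F, U) := Module.compHom _ (φU (A := A) U)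
  haveI : Module.Flat A Γ(F, U) := h
  exact mem_of_flat_relation 𝔪 J' c d hd hind p p' he j

/-- **sections of `J F` over an affine open**: a section dying in `F / J F` is a combination of
multiples of generators of `J`. -/
lemma exists_sum_of_isQ (J : Ideal A) {q : ℕ} (d : Fin q → A)
    (hd : Ideal.span (Set.range d) = J) {F Q : X.Modules} (hF : F.IsQuasicoherent)
    (hQ : Q.IsQuasicoherent) (π : F ⟶ Q) (hπ : IsQ J π) {U : X.Opens} (hU : IsAffineOpen U)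
    (s : Γ(F, U)) (hs : π.app U s = 0) :
    ∃ p : Fin q → Γ(F, U), s = ∑ i, (Formal.smulMod A F (d i)).app U (p i) := by
  obtain ⟨hepi, hk, hu⟩ := (isQ_iff J π).1 hπ
  haveI := hepi
  have hdJ : ∀ i, d i ∈ J := fun i => hd ▸ Ideal.subset_span ⟨i, rfl⟩
  obtain ⟨E, hE⟩ : ∃ E : (∐ fun _ : Fin q => F) ⟶ F,
      ∀ i, Sigma.ι (fun _ : Fin q => F) i ≫ E = Formal.smulMod A F (d i) :=
    ⟨Sigma.desc fun i => Formal.smulMod A F (d i), fun i => Sigma.ι_desc _ _⟩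
  have w : E ≫ π = 0 := by
    apply Sigma.hom_ext
    intro i
    rw [comp_zero, ← Category.assoc, hE]
    exact hk _ (hdJ i)
  have key : ∀ {Z : X.Modules} (g' : F ⟶ Z), E ≫ g' = 0 →
      ∀ b ∈ J, Formal.smulMod A F b ≫ g' = 0 := by
    intro Z g' hg' b hb
    rw [← hd] at hb
    obtain ⟨a, rfl⟩ := (Ideal.mem_span_range_iff_exists_fun).1 hb
    rw [smulMod_sum, Preadditive.sum_comp]
    apply Finset.sum_eq_zero
    intro i _
    have e0 : Formal.smulMod A F (d i) ≫ g' = 0 := by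
      rw [← hE, Category.assoc, hg', comp_zero]
    have e1 : Formal.smulMod A F (a i * d i) ≫ g' =
        (Formal.smulMod A F (d i) ≫ g') ≫ Formal.smulMod A Z (a i) := by
      rw [CohIII.smulMod_mul, Category.assoc, Category.assoc, comp_smulMod g' (a i)]
    rw [e1, e0, zero_comp]
  have hcok : IsColimit (CokernelCofork.ofπ π w) :=
    CokernelCofork.IsColimit.ofπ' π w
      (fun k hk' => ⟨(hu k (key k hk')).choose, (hu k (key k hk')).choose_spec⟩)
  let S : ShortComplex X.Modules := ShortComplex.mk E π w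
  have hS : S.Exact := S.exact_of_g_is_cokernel hcok
  haveI : Epi (kernel.lift π E w) := (S.exact_iff_epi_kernel_lift).1 hS
  obtain ⟨t, ht⟩ := QC.exists_kernel_section π U s hs
  haveI := hF
  obtain ⟨z, hz⟩ := QC.epi_app_affine (QC.qc_sigma_fin F q) (QC.qc_kernel π hF hQ)
    (kernel.lift π E w) hU t
  refine ⟨fun i => (SC.sigmaProj F q i).app U z, ?_⟩
  have h1 : s = E.app U z := by
    rw [← ht, ← hz, ← QC.comp_app', kernel.lift_ι]
  have h := congrArg (fun φ => (φ ≫ E).app U z) (SC.sigmaProj_total F q)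
  simp only [Category.id_comp, Preadditive.sum_comp, Category.assoc] at h
  rw [h1, ← h, FF.finset_sum_app]
  refine Finset.sum_congr rfl fun i _ => ?_
  rw [hE]
  rfl

section Lift

variable (𝔪 : Ideal A) (F : X.Modules)

lemma exists_abar (k : ℕ) (c : A) (hc : c ∈ 𝔪 ^ k) :
    ∃ ā : Formal.modPow 𝔪 1 F ⟶ Formal.modPow 𝔪 (k + 1) F,
      Formal.modPowπ 𝔪 1 F ≫ ā = Formal.smulMod A F c ≫ Formal.modPowπ 𝔪 (k + 1) F := by
  obtain ⟨_, _, hu⟩ := (isQ_iff _ _).1 (isQ_modPowπ 𝔪 1 F)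
  apply hu
  intro b hb
  rw [← Category.assoc, ← CohIII.smulMod_mul]
  refine ((isQ_iff _ _).1 (isQ_modPowπ 𝔪 (k + 1) F)).2.1 _ ?_
  rw [pow_succ]
  rw [pow_one] at hb
  exact Ideal.mul_mem_mul hc hb

/-- the transition map `Γ(F/𝔪^{k+1}F) → Γ(F/𝔪^kF)` is surjective when `H¹(F/𝔪F) = 0`, the sections
of `F` over a basis of affine opens are flat, and `𝔪^k` has generators independent modulo
`𝔪^{k+1}`. -/
theorem surjective_trans_app_top (hF : F.IsQuasicoherent) (𝒰 : Set X.Opens)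
    (h𝒰a : ∀ U ∈ 𝒰, IsAffineOpen U) (h𝒰f : ∀ U ∈ 𝒰, FlatSec A F U)
    (h𝒰b : ∀ (W : X.Opens) (x : X), x ∈ W → ∃ U ∈ 𝒰, x ∈ U ∧ U ≤ W)
    (k : ℕ) {r q : ℕ} (c : Fin r → A) (d : Fin q → A)
    (hc : Ideal.span (Set.range c) = 𝔪 ^ k) (hd : Ideal.span (Set.range d) = 𝔪 ^ (k + 1))
    (hind : ∀ b : Fin r → A, ∑ j, b j * c j ∈ 𝔪 ^ (k + 1) → ∀ j, b j ∈ 𝔪)
    (h1 : Subsingleton (Coh.HH X (Formal.modPow 𝔪 1 F) 1)) :
    Function.Surjective ((Formal.modPowTrans 𝔪 k F).app ⊤) := by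
  classical
  have hQ : ∀ n, (Formal.modPow 𝔪 n F).IsQuasicoherent := fun n =>
    QC.qc_cokernel _ (QC.qc_colimit (Discrete.functor fun _ : ↥(𝔪 ^ n) => F) (fun _ => hF)) hF
  have hcm : ∀ j, c j ∈ 𝔪 ^ k := fun j => hc ▸ Ideal.subset_span ⟨j, rfl⟩
  have hdm : ∀ i, d i ∈ 𝔪 ^ (k + 1) := fun i => hd ▸ Ideal.subset_span ⟨i, rfl⟩
  have hkill : ∀ (n : ℕ) (b : A), b ∈ 𝔪 ^ n →
      Formal.smulMod A F b ≫ Formal.modPowπ 𝔪 n F = 0 := fun n b hb =>
    ((isQ_iff _ _).1 (isQ_modPowπ 𝔪 n F)).2.1 b hb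
  have hepi : ∀ n, Epi (Formal.modPowπ 𝔪 n F) := fun n => (isQ_modPowπ 𝔪 n F).epi
  choose ā hā using fun j => exists_abar 𝔪 F k (c j) (hcm j)
  obtain ⟨Ψ, hΨ⟩ : ∃ Ψ : (∐ fun _ : Fin r => Formal.modPow 𝔪 1 F) ⟶ Formal.modPow 𝔪 (k + 1) F,
      ∀ j, Sigma.ι (fun _ : Fin r => Formal.modPow 𝔪 1 F) j ≫ Ψ = ā j :=
    ⟨Sigma.desc ā, fun j => Sigma.ι_desc _ _⟩
  have w : Ψ ≫ Formal.modPowTrans 𝔪 k F = 0 := by
    apply Sigma.hom_ext
    intro j
    haveI := hepi 1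
    rw [comp_zero, ← Category.assoc, hΨ, ← cancel_epi (Formal.modPowπ 𝔪 1 F), comp_zero,
      ← Category.assoc, hā, Category.assoc, Formal.modPowπ_trans]
    exact hkill k _ (hcm j)
  -- decomposition of sections of the finite coproduct over affine opens
  have hdec : ∀ (U : X.Opens), IsAffineOpen U →
      ∀ z : Γ(∐ fun _ : Fin r => Formal.modPow 𝔪 1 F, U),
      ∃ p : Fin r → Γ(F, U), z = ∑ j, (Sigma.ι (fun _ : Fin r => Formal.modPow 𝔪 1 F) j).app U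
        ((Formal.modPowπ 𝔪 1 F).app U (p j)) := by
    intro U hU z
    haveI := hepi 1
    have hsur := QC.epi_app_affine hF (hQ 1) (Formal.modPowπ 𝔪 1 F) hU
    choose p hp using fun j => hsur ((SC.sigmaProj (Formal.modPow 𝔪 1 F) r j).app U z)
    refine ⟨p, ?_⟩
    have h : (∑ j, SC.sigmaProj (Formal.modPow 𝔪 1 F) r j ≫
        Sigma.ι (fun _ : Fin r => Formal.modPow 𝔪 1 F) j).app U z = z := by
      rw [SC.sigmaProj_total]
      rfl
    rw [FF.finset_sum_app] at h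
    conv_lhs => rw [← h]
    refine Finset.sum_congr rfl fun j _ => ?_
    rw [hp j]
    rfl
  have hΨsec : ∀ (U : X.Opens) (p : Fin r → Γ(F, U)),
      Ψ.app U (∑ j, (Sigma.ι (fun _ : Fin r => Formal.modPow 𝔪 1 F) j).app U
        ((Formal.modPowπ 𝔪 1 F).app U (p j))) =
      (Formal.modPowπ 𝔪 (k + 1) F).app U (∑ j, (Formal.smulMod A F (c j)).app U (p j)) := by
    intro U p
    refine (map_sum (Ψ.app U).hom _ _).trans ?_
    refine Eq.trans ?_ (map_sum ((Formal.modPowπ 𝔪 (k + 1) F).app U).hom _ _).symm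
    refine Finset.sum_congr rfl fun j _ => ?_
    have e1 : (Ψ.app U).hom ((Sigma.ι (fun _ : Fin r => Formal.modPow 𝔪 1 F) j).app U
        ((Formal.modPowπ 𝔪 1 F).app U (p j))) =
        (Formal.modPowπ 𝔪 1 F ≫ Sigma.ι (fun _ : Fin r => Formal.modPow 𝔪 1 F) j ≫ Ψ).app U
          (p j) := rfl
    rw [e1, hΨ, hā]
    rfl
  let S : ShortComplex X.Modules := ShortComplex.mk Ψ (Formal.modPowTrans 𝔪 k F) w
  have hex : S.Exact := by
    apply QC.exact_of_local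
    intro U' t ht x hx
    obtain ⟨W, hW𝒰, hxW, hWU⟩ := h𝒰b U' x hx
    have hWa := h𝒰a W hW𝒰
    haveI := hepi (k + 1)
    obtain ⟨p, hp⟩ := QC.epi_app_affine hF (hQ (k + 1)) (Formal.modPowπ 𝔪 (k + 1) F) hWa
      ((Formal.modPow 𝔪 (k + 1) F).presheaf.map (homOfLE hWU).op t)
    have hp0 : (Formal.modPowπ 𝔪 k F).app W p = 0 := by
      have e1 : (Formal.modPowπ 𝔪 k F).app W p =
          (Formal.modPowTrans 𝔪 k F).app W ((Formal.modPowπ 𝔪 (k + 1) F).app W p) := by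
        rw [← Formal.modPowπ_trans]
        rfl
      have e2 : (Formal.modPowTrans 𝔪 k F).app U' t = 0 := ht
      rw [e1, hp, QC.app_res, e2, map_zero]
    obtain ⟨pp, hpp⟩ := exists_sum_of_isQ (𝔪 ^ k) c hc hF (hQ k) (Formal.modPowπ 𝔪 k F)
      (isQ_modPowπ 𝔪 k F) hWa p hp0
    refine ⟨W, hWU, hxW, ∑ j, (Sigma.ι (fun _ : Fin r => Formal.modPow 𝔪 1 F) j).app W
      ((Formal.modPowπ 𝔪 1 F).app W (pp j)), ?_⟩
    change Ψ.app W _ = _
    rw [hΨsec, ← hpp, hp]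
  have hmono : Mono Ψ := by
    apply QC.mono_of_injective_app
    intro W'
    refine (injective_iff_map_eq_zero (Ψ.app W').hom).2 ?_
    intro z hz
    choose V hV𝒰 hxV hVW using fun x : W' => h𝒰b W' x.1 x.2
    refine QC.section_ext_of_cover _ V hVW ?_ z 0 ?_
    · intro x hx
      exact TopologicalSpace.Opens.mem_iSup.2 ⟨⟨x, hx⟩, hxV ⟨x, hx⟩⟩
    · intro x
      rw [map_zero]
      have hVa := h𝒰a _ (hV𝒰 x)
      obtain ⟨p, hp⟩ := hdec (V x) hVa
        ((∐ fun _ : Fin r => Formal.modPow 𝔪 1 F).presheaf.map (homOfLE (hVW x)).op z)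
      have h0 : (Formal.modPowπ 𝔪 (k + 1) F).app (V x)
          (∑ j, (Formal.smulMod A F (c j)).app (V x) (p j)) = 0 := by
        have hz' : Ψ.app W' z = 0 := hz
        rw [← hΨsec, ← hp, QC.app_res, hz', map_zero]
      obtain ⟨p', hp'⟩ := exists_sum_of_isQ (𝔪 ^ (k + 1)) d hd hF (hQ (k + 1)) _
        (isQ_modPowπ 𝔪 (k + 1) F) hVa _ h0
      rw [hp]
      apply Finset.sum_eq_zero
      intro j _
      obtain ⟨n, e, y, he, hy⟩ := (h𝒰f _ (hV𝒰 x)).rel 𝔪 (𝔪 ^ (k + 1)) c d hdm hind p p' hp' j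
      have h2 : (Formal.modPowπ 𝔪 1 F).app (V x) (p j) = 0 := by
        rw [hy]
        refine (map_sum ((Formal.modPowπ 𝔪 1 F).app (V x)).hom _ _).trans ?_
        apply Finset.sum_eq_zero
        intro l _
        have e2 : ((Formal.modPowπ 𝔪 1 F).app (V x)).hom
            ((Formal.smulMod A F (e l)).app (V x) (y l)) =
          (Formal.smulMod A F (e l) ≫ Formal.modPowπ 𝔪 1 F).app (V x) (y l) := rfl
        rw [e2, hkill 1 (e l) (by rw [pow_one]; exact he l)]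
        rfl
      rw [h2, map_zero]
  have hepiT : Epi (Formal.modPowTrans 𝔪 k F) := by
    haveI : Epi (Formal.modPowπ 𝔪 (k + 1) F ≫ Formal.modPowTrans 𝔪 k F) := by
      rw [Formal.modPowπ_trans]
      exact hepi k
    exact epi_of_epi (Formal.modPowπ 𝔪 (k + 1) F) _
  have hSE : S.ShortExact := ShortComplex.ShortExact.mk' hex hmono hepiT
  have hH : SC.H1Zero S.X₁ :=
    SC.h1Zero_of_HH _ (PN.subsingleton_HH_sigma (Formal.modPow 𝔪 1 F) r 1 h1)
  exact SC.surjective_app_top_of_h1Zero hSE hH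

end Lift

/-- **lifting sections from the closed fibre**: for `X` proper over a Noetherian local ring `A`
and a coherent module `F` with flat sections over a basis of affine opens, if `H¹(X, F/𝔪F) = 0`
then `Γ(X, F) → Γ(X, F/𝔪F)` is surjective. -/
theorem surjective_modPowπ_one_app_top [IsLocalRing A] [IsNoetherianRing A]
    [IsProper (X ↘ Spec (CommRingCat.of A))]
    (F : X.Modules) (hF : Coh.IsCoh F) (𝒰 : Set X.Opens)
    (h𝒰a : ∀ U ∈ 𝒰, IsAffineOpen U) (h𝒰f : ∀ U ∈ 𝒰, FlatSec A F U)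
    (h𝒰b : ∀ (W : X.Opens) (x : X), x ∈ W → ∃ U ∈ 𝒰, x ∈ U ∧ U ≤ W)
    (h1 : Subsingleton (Coh.HH X (Formal.modPow (IsLocalRing.maximalIdeal A) 1 F) 1)) :
    Function.Surjective ((Formal.modPowπ (IsLocalRing.maximalIdeal A) 1 F).app ⊤) := by
  obtain ⟨𝔪, h𝔪⟩ : ∃ 𝔪 : Ideal A, 𝔪 = IsLocalRing.maximalIdeal A := ⟨_, rfl⟩
  rw [← h𝔪] at h1 ⊢
  haveI : IsLocallyNoetherian X :=
    LocallyOfFiniteType.isLocallyNoetherian (X ↘ Spec (CommRingCat.of A))
  haveI : CompactSpace X :=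
    (quasiCompact_iff_compactSpace (X ↘ Spec (CommRingCat.of A))).mp inferInstance
  have hfin : FF.FinHyp X A := fun M hM n => Groth.Agent.S0002.result A X M hM n
  obtain ⟨c₀, hc₀⟩ := FF.range_eq_range_toHHmodPow_aux FF.noethHyp hfin 𝔪 F hF 0
  have htr : ∀ k, Function.Surjective ((Formal.modPowTrans 𝔪 k F).app ⊤) := by
    intro k
    obtain ⟨r, c, hc, hind⟩ := exists_min_gens (𝔪 ^ k) (IsNoetherian.noetherian _)
    obtain ⟨q, d, hd⟩ := Submodule.fg_iff_exists_fin_generating_family.1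
      (IsNoetherian.noetherian (𝔪 ^ (k + 1)))
    refine surjective_trans_app_top 𝔪 F hF.1 𝒰 h𝒰a h𝒰f h𝒰b k c d hc hd ?_ h1
    intro b hb
    have hind' := hind b
    rw [← h𝔪, ← pow_succ'] at hind'
    exact hind' hb
  have hψ : ∀ k, ∃ ψ : Formal.modPow 𝔪 (k + 1) F ⟶ Formal.modPow 𝔪 (0 + 1) F,
      Formal.modPowπ 𝔪 (k + 1) F ≫ ψ = Formal.modPowπ 𝔪 (0 + 1) F ∧
        Function.Surjective (ψ.app ⊤) := by
    intro k
    induction k with
    | zero => exact ⟨𝟙 _, Category.comp_id _, fun x => ⟨x, rfl⟩⟩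
    | succ k ih =>
      obtain ⟨ψ, h1, h2⟩ := ih
      refine ⟨Formal.modPowTrans 𝔪 (k + 1) F ≫ ψ, ?_, ?_⟩
      · rw [← Category.assoc, Formal.modPowπ_trans, h1]
      · exact h2.comp (htr (k + 1))
  obtain ⟨ψ, hψ1, hψ2⟩ := hψ c₀
  have hrange := hc₀ 0 c₀ (Nat.zero_le _) (by omega) ψ hψ1
  intro z
  obtain ⟨w, hw⟩ := hψ2 z
  have hmem : (CL.HH0Equiv _).symm (ψ.app ⊤ w) ∈
      Set.range (Sheaf.H.map ((SheafOfModules.toSheaf X.ringCatSheaf).map ψ) 0) := by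
    refine ⟨(CL.HH0Equiv _).symm w, ?_⟩
    apply (CL.HH0Equiv _).injective
    rw [AddEquiv.apply_symm_apply]
    exact (CL.HH0Equiv_map ψ _).trans (by rw [AddEquiv.apply_symm_apply])
  rw [hrange] at hmem
  obtain ⟨x, hx⟩ := hmem
  refine ⟨CL.HH0Equiv F x, ?_⟩
  have h3 := CL.HH0Equiv_map (Formal.modPowπ 𝔪 (0 + 1) F) x
  have h4 : CL.HHmapZ (Formal.modPowπ 𝔪 (0 + 1) F) 0 x = (CL.HH0Equiv _).symm (ψ.app ⊤ w) := hx
  rw [h4, AddEquiv.apply_symm_apply, hw] at h3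
  exact h3.symm

end Groth.Agent.LD.NF
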