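import Groth.Agent.Lib.Lead.FBC.SecBCMain
import Groth.Agent.Lib.Lead.QC.PullInv
import Groth.Agent.Lib.Lead.QC.AmpleBase
import Groth.Agent.Lib.Lead.QC.InvBasis
import Mathlib.AlgebraicGeometry.Morphisms.Proper

/-! # Spreading out a trivialisation from the base change to `Spec O_{Y,y}` to a neighbourhood of
the fibre. -/

set_option autoImplicit false
universe u
open CategoryTheory Limits Opposite TopologicalSpace AlgebraicGeometry TensorProduct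

namespace Groth.Agent.LD.NF

open Groth.Agent.LD

/-- `Spec O_{X,x} → X` is flat. -/
theorem flat_fromSpecStalk' (X : Scheme.{u}) (x : X) : Flat (X.fromSpecStalk x) := by
  obtain ⟨_, ⟨U, hU, rfl⟩, hxU, -⟩ :=
    X.isBasis_affineOpens.exists_subset_of_mem_open (Set.mem_univ x) isOpen_univ
  rw [← hU.fromSpecStalk_eq_fromSpecStalk hxU, IsAffineOpen.fromSpecStalk]
  have : Flat (Spec.map (X.presheaf.germ U x hxU)) := by
    rw [Flat.SpecMap_iff]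
    letI : Algebra Γ(X, U) (X.presheaf.stalk x) := (X.presheaf.germ U x hxU).hom.toAlgebra
    haveI := hU.isLocalization_stalk ⟨x, hxU⟩
    have : Module.Flat Γ(X, U) (X.presheaf.stalk x) :=
      IsLocalization.flat (X.presheaf.stalk x) (hU.primeIdealOf ⟨x, hxU⟩).asIdeal.primeCompl
    exact this
  have : Flat hU.fromSpec := by
    have := hU.isOpenImmersion_fromSpec
    infer_instance
  infer_instance

lemma top_le_fromSpecStalk_preimage {Y : Scheme.{u}} (y : Y) (V : Y.Opens) (hy : y ∈ V) :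
    (⊤ : (Spec (Y.presheaf.stalk y)).Opens) ≤ (Y.fromSpecStalk y) ⁻¹ᵁ V := by
  intro p _
  have h2 : (Y.fromSpecStalk y) p ⤳ y := by
    have : (Y.fromSpecStalk y) p ∈ Set.range (Y.fromSpecStalk y) := ⟨p, rfl⟩
    rw [Scheme.range_fromSpecStalk] at this
    exact this
  exact h2.mem_open V.2 hy

lemma fromSpecStalk_appLE_top {Y : Scheme.{u}} (y : Y) (V : Y.Opens) (hy : y ∈ V)
    (e : (⊤ : (Spec (Y.presheaf.stalk y)).Opens) ≤ (Y.fromSpecStalk y) ⁻¹ᵁ V) :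
    (Y.fromSpecStalk y).appLE V ⊤ e =
      Y.presheaf.germ V y hy ≫ (Scheme.ΓSpecIso (Y.presheaf.stalk y)).inv := by
  rw [Scheme.Hom.appLE, Scheme.fromSpecStalk_app hy, Category.assoc, Category.assoc,
    ← Functor.map_comp]
  have h : (homOfLE (le_top : (Y.fromSpecStalk y) ⁻¹ᵁ V ≤ ⊤)).op ≫ (homOfLE e).op =
      𝟙 (op (⊤ : (Spec (Y.presheaf.stalk y)).Opens)) := Subsingleton.elim _ _
  rw [h, CategoryTheory.Functor.map_id, Category.comp_id]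

/-- every function on `Spec O_{Y,y}` comes from a neighbourhood of `y`. -/
lemma exists_appLE_eq {Y : Scheme.{u}} (y : Y) (V : Y.Opens) (hyV : y ∈ V)
    (b : Γ(Spec (Y.presheaf.stalk y), ⊤)) :
    ∃ (V'' : Y.Opens) (hy : y ∈ V'') (_ : V'' ≤ V) (β : Γ(Y, V'')),
      (Y.fromSpecStalk y).appLE V'' ⊤ (top_le_fromSpecStalk_preimage y V'' hy) β = b := by
  obtain ⟨V₀, hy₀, β₀, hβ₀⟩ := TopCat.Presheaf.germ_exist Y.presheaf (x := y)
    ((Scheme.ΓSpecIso (Y.presheaf.stalk y)).hom b)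
  refine ⟨V₀ ⊓ V, ⟨hy₀, hyV⟩, inf_le_right,
    Y.presheaf.map (homOfLE (inf_le_left : V₀ ⊓ V ≤ V₀)).op β₀, ?_⟩
  rw [fromSpecStalk_appLE_top y (V₀ ⊓ V) (show y ∈ V₀ ⊓ V from ⟨hy₀, hyV⟩)]
  change (Scheme.ΓSpecIso (Y.presheaf.stalk y)).inv
    (Y.presheaf.germ (V₀ ⊓ V) y ⟨hy₀, hyV⟩ (Y.presheaf.map (homOfLE inf_le_left).op β₀)) = b
  rw [TopCat.Presheaf.germ_res_apply, hβ₀]
  exact congr($((Scheme.ΓSpecIso (Y.presheaf.stalk y)).hom_inv_id) b)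

section Spread

variable {X Y : Scheme.{u}} (f : X ⟶ Y) (y : Y) {X₁ : Scheme.{u}}
  (f₁ : X₁ ⟶ Spec (Y.presheaf.stalk y)) (g : X₁ ⟶ X)
  (hsq : IsPullback g f₁ f (Y.fromSpecStalk y))

include hsq in
lemma top_le_preimage (V : Y.Opens) (hy : y ∈ V) : (⊤ : X₁.Opens) ≤ g ⁻¹ᵁ (f ⁻¹ᵁ V) := by
  intro x₁ _
  change f (g x₁) ∈ V
  have h1 : f (g x₁) = (Y.fromSpecStalk y) (f₁ x₁) := by
    have := congrArg (fun φ : X₁ ⟶ Y => φ x₁) hsq.w
    simpa using this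
  rw [h1]
  exact top_le_fromSpecStalk_preimage y V hy (Set.mem_univ _)

include hsq in
/-- **sections of the base change to the local ring come from a neighbourhood.** -/
theorem exists_section_of_pullback [QuasiCompact f] [QuasiSeparated f] (N : X.Modules)
    [N.IsQuasicoherent] (t : Γ((Scheme.Modules.pullback g).obj N, ⊤)) :
    ∃ (V' : Y.Opens) (hy : y ∈ V') (σ : Γ(N, f ⁻¹ᵁ V')),
      QC.pbSec g N (top_le_preimage f y f₁ g hsq V' hy) σ = t := by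
  obtain ⟨V, hV, hyV⟩ : ∃ V : Y.Opens, IsAffineOpen V ∧ y ∈ V := by
    obtain ⟨_, ⟨V, hV, rfl⟩, hy, -⟩ :=
      Y.isBasis_affineOpens.exists_subset_of_mem_open (Set.mem_univ y) isOpen_univ
    exact ⟨V, hV, hy⟩
  haveI : Flat (Y.fromSpecStalk y) := flat_fromSpecStalk' Y y
  have e := top_le_fromSpecStalk_preimage y V hyV
  letI alg : Algebra Γ(Y, V) Γ(Spec (Y.presheaf.stalk y), ⊤) :=
    ((Y.fromSpecStalk y).appLE V ⊤ e).hom.toAlgebra
  haveI : Module.Flat Γ(Y, V) Γ(Spec (Y.presheaf.stalk y), ⊤) :=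
    (Y.fromSpecStalk y).flat_appLE hV (isAffineOpen_top _) e
  have hcomp : IsCompact ((f ⁻¹ᵁ V : X.Opens) : Set X) :=
    QuasiCompact.isCompact_preimage (f := f) _ V.2 hV.isCompact
  have hqs : IsQuasiSeparated ((f ⁻¹ᵁ V : X.Opens) : Set X) :=
    f.isQuasiSeparated_preimage hV.isQuasiSeparated
  have h1 : (⊤ : X₁.Opens) ≤ g ⁻¹ᵁ (f ⁻¹ᵁ V) := top_le_preimage f y f₁ g hsq V hyV
  have h2 : (⊤ : X₁.Opens) ≤ f₁ ⁻¹ᵁ (⊤ : (Spec (Y.presheaf.stalk y)).Opens) := fun _ _ => trivial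
  have hbij := FBC.bijective_secBC_of_eq f (Y.fromSpecStalk y) f₁ g hsq.w N V ⊤ e (fun _ => rfl)
    (le_refl (f ⁻¹ᵁ V)) h1 h2
    (by
      apply le_antisymm
      · exact le_inf h1 h2
      · exact le_top)
    (FBC.PW_of_isCompact f (Y.fromSpecStalk y) f₁ g hsq.w N V ⊤ e (fun _ => rfl) hsq hV
      (isAffineOpen_top _) _ hcomp hqs)
  have key : ∀ x : Γ(Spec (Y.presheaf.stalk y), ⊤) ⊗[Γ(Y, V)]
      FBC.GamW f N V (f ⁻¹ᵁ V) (le_refl _),
      ∃ (V' : Y.Opens) (hy : y ∈ V') (σ : Γ(N, f ⁻¹ᵁ V')),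
        QC.pbSec g N (top_le_preimage f y f₁ g hsq V' hy) σ =
          FBC.secBC f (Y.fromSpecStalk y) f₁ g hsq.w N V ⊤ e (fun _ => rfl)
            (le_refl (f ⁻¹ᵁ V)) h1 h2 x := by
    intro x
    induction x using TensorProduct.induction_on with
    | zero => exact ⟨V, hyV, 0, by rw [QC.pbSec_zero, map_zero]⟩
    | tmul b s =>
      obtain ⟨V'', hy'', hle, β, hβ⟩ := exists_appLE_eq y V hyV b
      have hpre : f ⁻¹ᵁ V'' ≤ f ⁻¹ᵁ V := fun _ hx => hle hx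
      refine ⟨V'', hy'', (f.appLE V'' (f ⁻¹ᵁ V'') (le_refl _) β) •
        N.presheaf.map (homOfLE hpre).op (show Γ(N, f ⁻¹ᵁ V) from s), ?_⟩
      rw [FBC.secBC_tmul, QC.pbSec_smul]
      letI alg'' : Algebra Γ(Y, V'') Γ(Spec (Y.presheaf.stalk y), ⊤) :=
        ((Y.fromSpecStalk y).appLE V'' ⊤ (top_le_fromSpecStalk_preimage y V'' hy'')).hom.toAlgebra
      have hc := FBC.appLE_compat f (Y.fromSpecStalk y) f₁ g hsq.w V'' ⊤
        (top_le_fromSpecStalk_preimage y V'' hy'') (fun _ => rfl) (le_refl (f ⁻¹ᵁ V''))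
        (top_le_preimage f y f₁ g hsq V'' hy'') h2 β
      have hc' : g.appLE (f ⁻¹ᵁ V'') ⊤ (top_le_preimage f y f₁ g hsq V'' hy'')
          (f.appLE V'' (f ⁻¹ᵁ V'') (le_refl _) β) = f₁.appLE ⊤ ⊤ h2 b := by
        rw [hc]
        exact congrArg _ hβ
      rw [hc', QC.pbSec_res g N h1 (top_le_preimage f y f₁ g hsq V'' hy'') (le_refl _) hpre,
        QC.res_self]
    | add x₁ x₂ ih₁ ih₂ =>
      obtain ⟨V₁, hy₁, σ₁, hσ₁⟩ := ih₁
      obtain ⟨V₂, hy₂, σ₂, hσ₂⟩ := ih₂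
      have hp₁ : f ⁻¹ᵁ (V₁ ⊓ V₂) ≤ f ⁻¹ᵁ V₁ := fun _ hx => hx.1
      have hp₂ : f ⁻¹ᵁ (V₁ ⊓ V₂) ≤ f ⁻¹ᵁ V₂ := fun _ hx => hx.2
      refine ⟨V₁ ⊓ V₂, ⟨hy₁, hy₂⟩, N.presheaf.map (homOfLE hp₁).op σ₁ +
        N.presheaf.map (homOfLE hp₂).op σ₂, ?_⟩
      rw [QC.pbSec_add, map_add, ← hσ₁, ← hσ₂,
        QC.pbSec_res g N (top_le_preimage f y f₁ g hsq V₁ hy₁)
          (top_le_preimage f y f₁ g hsq (V₁ ⊓ V₂) ⟨hy₁, hy₂⟩) (le_refl _) hp₁,
        QC.pbSec_res g N (top_le_preimage f y f₁ g hsq V₂ hy₂)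
          (top_le_preimage f y f₁ g hsq (V₁ ⊓ V₂) ⟨hy₁, hy₂⟩) (le_refl _) hp₂,
        QC.res_self, QC.res_self]
  obtain ⟨x, hx⟩ := hbij.2 t
  obtain ⟨V', hy', σ, hσ⟩ := key x
  exact ⟨V', hy', σ, hσ.trans hx⟩

/-- a section whose pullback is a basis near a point `x₁` is a basis near `g x₁`. -/
lemma exists_basis_nbhd (N : X.Modules) (hN : PicF.IsInvertible N) [N.IsQuasicoherent]
    (O : X.Opens) (σ : Γ(N, O)) (h : (⊤ : X₁.Opens) ≤ g ⁻¹ᵁ O)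
    (ht : QC.IsBasisOver ((Scheme.Modules.pullback g).obj N) ⊤ (QC.pbSec g N h σ)) (x₁ : X₁) :
    ∃ (W : X.Opens) (hW : W ≤ O), g x₁ ∈ W ∧
      QC.IsBasisOver N W (N.presheaf.map (homOfLE hW).op σ) := by
  have hxO : g x₁ ∈ O := h (Set.mem_univ x₁)
  obtain ⟨U, e, hUa, hxU, hUO, he⟩ := QC.exists_affine_basis N hN (g x₁) O hxO
  obtain ⟨a, ha⟩ := he.exists_coord (N.presheaf.map (homOfLE hUO).op σ)
  -- pull back to `g⁻¹ U`
  have hpe : QC.IsBasisOver ((Scheme.Modules.pullback g).obj N) (g ⁻¹ᵁ U)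
      (QC.pbSec g N (le_refl (g ⁻¹ᵁ U)) e) := QC.IsBasisOver.pullback g he (le_refl _)
  have hpσ : QC.IsBasisOver ((Scheme.Modules.pullback g).obj N) (g ⁻¹ᵁ U)
      ((g.appLE U (g ⁻¹ᵁ U) (le_refl _) a) • QC.pbSec g N (le_refl (g ⁻¹ᵁ U)) e) := by
    rw [← QC.pbSec_smul, ← ha, QC.pbSec_res g N h (le_refl (g ⁻¹ᵁ U)) le_top hUO]
    exact ht.mono le_top
  have hunit : IsUnit (g.appLE U (g ⁻¹ᵁ U) (le_refl _) a) := (hpe.smul_iff _).1 hpσ
  have hx₁ : x₁ ∈ X₁.basicOpen (g.appLE U (g ⁻¹ᵁ U) (le_refl _) a) := by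
    rw [Scheme.basicOpen_of_isUnit _ hunit]
    exact hxU
  have hxa : g x₁ ∈ X.basicOpen a := by
    rw [Scheme.Hom.appLE_eq_app, ← Scheme.preimage_basicOpen] at hx₁
    exact hx₁
  have hWU : X.basicOpen a ≤ U := X.basicOpen_le a
  refine ⟨X.basicOpen a, hWU.trans hUO, hxa, ?_⟩
  have hres : N.presheaf.map (homOfLE (hWU.trans hUO)).op σ =
      X.presheaf.map (homOfLE hWU).op a • N.presheaf.map (homOfLE hWU).op e := by
    rw [← QC.smul_res, ← ha, QC.res_res]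
  rw [hres]
  exact ((he.mono hWU).smul_iff _).2 (QC.isUnit_res_of_le_basicOpen a hWU (le_refl _))

include hsq in
/-- **spreading out a trivialisation**: if `g^* N` has a global basis on `X ×_Y Spec O_{Y,y}` then
`N` has a basis over the preimage of a neighbourhood of `y`. -/
theorem exists_basis_preimage [IsProper f] (N : X.Modules) (hN : PicF.IsInvertible N)
    [N.IsQuasicoherent] (t : Γ((Scheme.Modules.pullback g).obj N, ⊤))
    (ht : QC.IsBasisOver ((Scheme.Modules.pullback g).obj N) ⊤ t) :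
    ∃ (U : Y.Opens) (_ : y ∈ U) (σ : Γ(N, f ⁻¹ᵁ U)), QC.IsBasisOver N (f ⁻¹ᵁ U) σ := by
  obtain ⟨V', hy', σ, hσ⟩ := exists_section_of_pullback f y f₁ g hsq N t
  rw [← hσ] at ht
  -- the locus where `σ` is a basis
  let 𝒲 : Set X.Opens := {W | ∃ hW : W ≤ f ⁻¹ᵁ V',
    QC.IsBasisOver N W (N.presheaf.map (homOfLE hW).op σ)}
  let G : X.Opens := sSup 𝒲
  have hGle : G ≤ f ⁻¹ᵁ V' := sSup_le fun W hW => hW.1
  have hGb : QC.IsBasisOver N G (N.presheaf.map (homOfLE hGle).op σ) := by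
    apply QC.isBasisOver_of_local
    intro x hx W₀ hxW₀
    obtain ⟨W, ⟨hW, hWb⟩, hxW⟩ := TopologicalSpace.Opens.mem_sSup.1 hx
    have hWG : W ≤ G := le_sSup ⟨hW, hWb⟩
    refine ⟨W ⊓ W₀, inf_le_left.trans hWG, ⟨hxW, hxW₀⟩, inf_le_right, ?_⟩
    have := hWb (W ⊓ W₀) inf_le_left
    rw [QC.res_res] at this ⊢
    exact this
  have hfib : ∀ x : X, f x = y → x ∈ G := by
    intro x hx
    obtain ⟨x₁, hx₁, -⟩ := Scheme.exists_preimage_of_isPullback hsq x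
      (IsLocalRing.closedPoint (Y.presheaf.stalk y))
      (by rw [hx]; exact Scheme.fromSpecStalk_closedPoint.symm)
    obtain ⟨W, hW, hxW, hWb⟩ := exists_basis_nbhd g N hN (f ⁻¹ᵁ V') σ
      (top_le_preimage f y f₁ g hsq V' hy') ht x₁
    rw [← hx₁]
    exact TopologicalSpace.Opens.mem_sSup.2 ⟨W, ⟨hW, hWb⟩, hxW⟩
  have hclosed : IsClosed (f '' ((G : Set X)ᶜ)) := f.isClosedMap _ G.2.isClosed_compl
  let U : Y.Opens := ⟨(f '' ((G : Set X)ᶜ))ᶜ, hclosed.isOpen_compl⟩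
  have hyU : y ∈ U := by
    rintro ⟨x, hxG, hxy⟩
    exact hxG (hfib x hxy)
  have hUG : f ⁻¹ᵁ U ≤ G := by
    intro x hx
    by_contra hxG
    exact hx ⟨x, hxG, rfl⟩
  exact ⟨U, hyU, _, hGb.mono hUG⟩

end Spread

end Groth.Agent.LD.NF
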