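import Mathlib.RingTheory.Flat.EquationalCriterion
import Mathlib.RingTheory.LocalRing.MaximalIdeal.Basic
import Mathlib.RingTheory.Ideal.Operations
import Mathlib.RingTheory.Finiteness.Defs
import Mathlib.Algebra.BigOperators.Fin

/-! # Two algebra lemmas for lifting sections from the closed fibre

* minimal generators of a finitely generated ideal `J` of a local ring are independent modulo `𝔪 J`;
* in a flat module, a relation `∑ cⱼ pⱼ = ∑ dᵢ p'ᵢ` with the `cⱼ` independent modulo the ideal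
  generated by the `dᵢ` forces the `pⱼ` to lie in `𝔪 P`. -/

set_option autoImplicit false

namespace Groth.Agent.LD.NF

open IsLocalRing

/-- minimal generators of a finitely generated ideal of a local ring are independent modulo `𝔪`. -/
theorem exists_min_gens {B : Type*} [CommRing B] [IsLocalRing B] (J : Ideal B) (hJ : J.FG) :
    ∃ (r : ℕ) (c : Fin r → B), Ideal.span (Set.range c) = J ∧
      ∀ b : Fin r → B, ∑ j, b j * c j ∈ maximalIdeal B * J → ∀ j, b j ∈ maximalIdeal B := by
  classical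
  have hex : ∃ n : ℕ, ∃ c : Fin n → B, Ideal.span (Set.range c) = J := by
    obtain ⟨n, s, hs⟩ := Submodule.fg_iff_exists_fin_generating_family.1 hJ
    exact ⟨n, s, hs⟩
  obtain ⟨r, hr⟩ : ∃ r, r = Nat.find hex := ⟨_, rfl⟩
  have hmin : ∀ n, n < r → ¬ ∃ c : Fin n → B, Ideal.span (Set.range c) = J := by
    intro n hn
    rw [hr] at hn
    exact Nat.find_min hex hn
  have hspec : ∃ c : Fin r → B, Ideal.span (Set.range c) = J := by
    rw [hr]
    exact Nat.find_spec hex
  obtain ⟨c, hc⟩ := hspec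
  refine ⟨r, c, hc, ?_⟩
  intro b hb
  by_contra hcon
  push Not at hcon
  obtain ⟨j0, hj0⟩ := hcon
  rw [← hc, ← Ideal.smul_eq_mul, Ideal.span, Submodule.mem_ideal_smul_span_iff_exists_sum] at hb
  obtain ⟨a, ha, hsum⟩ := hb
  rw [Finsupp.sum_fintype _ _ (fun i => by simp)] at hsum
  have hrel : ∑ j, (b j - a j) * c j = 0 := by
    simp only [sub_mul, Finset.sum_sub_distrib]
    rw [sub_eq_zero]
    simpa [smul_eq_mul] using hsum.symm
  have hu : IsUnit (b j0 - a j0) := by
    rw [← IsLocalRing.notMem_maximalIdeal]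
    intro h
    apply hj0
    have := Ideal.add_mem _ h (ha j0)
    simpa using this
  obtain ⟨v, hv⟩ := hu
  cases r with
  | zero => exact j0.elim0
  | succ r' =>
    apply hmin r' (Nat.lt_succ_self r')
    refine ⟨fun i => c (j0.succAbove i), ?_⟩
    rw [Fin.sum_univ_succAbove _ j0] at hrel
    have hcj0 : c j0 = -(↑v⁻¹ * ∑ i, (b (j0.succAbove i) - a (j0.succAbove i)) * c (j0.succAbove i)) := by
      have h1 : (v : B) * c j0 = -∑ i, (b (j0.succAbove i) - a (j0.succAbove i)) * c (j0.succAbove i) := by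
        rw [hv]
        exact eq_neg_of_add_eq_zero_left hrel
      calc c j0 = ↑v⁻¹ * ((v : B) * c j0) := by rw [← mul_assoc, Units.inv_mul, one_mul]
        _ = _ := by rw [h1, mul_neg]
    apply le_antisymm
    · rw [Ideal.span_le]
      rintro _ ⟨i, rfl⟩
      rw [← hc]
      exact Ideal.subset_span ⟨_, rfl⟩
    · rw [← hc, Ideal.span_le]
      rintro _ ⟨j, rfl⟩
      by_cases hj : j = j0
      · subst hj
        rw [hcj0]
        refine (Ideal.neg_mem_iff _).2 (Ideal.mul_mem_left _ _ (Submodule.sum_mem _ fun i _ => ?_))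
        exact Ideal.mul_mem_left _ _ (Ideal.subset_span ⟨i, rfl⟩)
      · obtain ⟨z, hz⟩ := Fin.exists_succAbove_eq hj
        exact Ideal.subset_span ⟨z, congrArg c hz⟩

/-- in a flat module, a relation `∑ cⱼ pⱼ = ∑ dᵢ p'ᵢ` whose coefficients `cⱼ` are independent modulo
the `dᵢ` forces each `pⱼ` into `𝔪 P`. -/
theorem mem_of_flat_relation {B P : Type*} [CommRing B] [AddCommGroup P] [Module B P]
    [Module.Flat B P] (𝔪 J' : Ideal B) {r q : ℕ} (c : Fin r → B) (d : Fin q → B)
    (hd : ∀ i, d i ∈ J')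
    (hind : ∀ b : Fin r → B, ∑ j, b j * c j ∈ J' → ∀ j, b j ∈ 𝔪)
    (p : Fin r → P) (p' : Fin q → P) (h : ∑ j, c j • p j = ∑ i, d i • p' i) (j : Fin r) :
    ∃ (k : ℕ) (e : Fin k → B) (y : Fin k → P), (∀ l, e l ∈ 𝔪) ∧ p j = ∑ l, e l • y l := by
  have hrel : ∑ x : Fin r ⊕ Fin q, (Sum.elim c (fun i => - d i) x) • (Sum.elim p p' x) = 0 := by
    rw [Fintype.sum_sum_type]
    simp only [Sum.elim_inl, Sum.elim_inr, neg_smul, Finset.sum_neg_distrib]
    rw [h, add_neg_cancel]
  obtain ⟨k, a, y, hx, ha⟩ := Module.Flat.isTrivialRelation_of_sum_smul_eq_zero hrel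
  refine ⟨k, fun l => a (Sum.inl j) l, y, fun l => ?_, hx (Sum.inl j)⟩
  have h1 := ha l
  rw [Fintype.sum_sum_type] at h1
  simp only [Sum.elim_inl, Sum.elim_inr, neg_mul, Finset.sum_neg_distrib] at h1
  have h2 : ∑ j', a (Sum.inl j') l * c j' ∈ J' := by
    have h3 : ∑ j', a (Sum.inl j') l * c j' = ∑ i, d i * a (Sum.inr i) l := by
      have h4 := eq_neg_of_add_eq_zero_left h1
      rw [neg_neg] at h4
      rw [← h4]
      exact Finset.sum_congr rfl fun _ _ => mul_comm _ _
    rw [h3]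
    exact Submodule.sum_mem _ fun i _ => Ideal.mul_mem_right _ _ (hd i)
  exact hind _ h2 j

end Groth.Agent.LD.NF
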