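import Groth.Agent.Lib.Lead.NF.Spread
import Groth.Agent.Lib.Lead.QC.EpiLocal
import Groth.Agent.Lib.Lead.QC.AmpleGG
import Groth.Agent.Lib.Lead.QC.AmpleIso
import Groth.Agent.Lib.Lead.QC.AmpleBasis
import Groth.Agent.Lib.Helper5.GG.FinGen
import Groth.Agent.Lib.Helper5.GG.Ext
import Groth.Agent.Lib.Helper5.VAmple.I
import Groth.Agent.Lib.Helper2.ProjUPF

/-! # Spreading out global generation from the base change to `Spec O_{Y,y}` to a neighbourhood of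
the fibre. -/

set_option autoImplicit false
universe u
open CategoryTheory Limits Opposite TopologicalSpace AlgebraicGeometry

namespace Groth.Agent.LD.NF

open Groth.Agent.LD

section

variable {X X₁ : Scheme.{u}} (g : X₁ ⟶ X)

/-- a section whose pullback is a basis near a point `x₁` is a basis near `g x₁` (local form). -/
lemma exists_basis_nbhd' (N : X.Modules) (hN : PicF.IsInvertible N) [N.IsQuasicoherent]
    (O : X.Opens) (σ : Γ(N, O)) (h : (⊤ : X₁.Opens) ≤ g ⁻¹ᵁ O) (x₁ : X₁) (U₁ : X₁.Opens)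
    (hx₁ : x₁ ∈ U₁)
    (ht : QC.IsBasisOver ((Scheme.Modules.pullback g).obj N) U₁
      (((Scheme.Modules.pullback g).obj N).presheaf.map (homOfLE (le_top : U₁ ≤ ⊤)).op
        (QC.pbSec g N h σ))) :
    ∃ (W : X.Opens) (hW : W ≤ O), g x₁ ∈ W ∧
      QC.IsBasisOver N W (N.presheaf.map (homOfLE hW).op σ) := by
  have hxO : g x₁ ∈ O := h (Set.mem_univ x₁)
  obtain ⟨U, e, hUa, hxU, hUO, he⟩ := QC.exists_affine_basis N hN (g x₁) O hxO
  obtain ⟨a, ha⟩ := he.exists_coord (N.presheaf.map (homOfLE hUO).op σ)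
  have hle : g ⁻¹ᵁ U ⊓ U₁ ≤ g ⁻¹ᵁ U := inf_le_left
  have hpe : QC.IsBasisOver ((Scheme.Modules.pullback g).obj N) (g ⁻¹ᵁ U ⊓ U₁)
      (QC.pbSec g N hle e) := QC.IsBasisOver.pullback g he hle
  have hpσ : QC.IsBasisOver ((Scheme.Modules.pullback g).obj N) (g ⁻¹ᵁ U ⊓ U₁)
      ((g.appLE U (g ⁻¹ᵁ U ⊓ U₁) hle a) • QC.pbSec g N hle e) := by
    rw [← QC.pbSec_smul, ← ha, QC.pbSec_res g N h hle le_top hUO]
    have h1 := ht.mono (inf_le_right : g ⁻¹ᵁ U ⊓ U₁ ≤ U₁)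
    rw [QC.res_res] at h1
    exact h1
  have hunit : IsUnit (g.appLE U (g ⁻¹ᵁ U ⊓ U₁) hle a) := (hpe.smul_iff _).1 hpσ
  have hx₁' : x₁ ∈ X₁.basicOpen (g.appLE U (g ⁻¹ᵁ U ⊓ U₁) hle a) := by
    rw [Scheme.basicOpen_of_isUnit _ hunit]
    exact ⟨hxU, hx₁⟩
  have hxa : g x₁ ∈ X.basicOpen a := by
    have h1 : g.appLE U (g ⁻¹ᵁ U ⊓ U₁) hle a =
        X₁.presheaf.map (homOfLE hle).op (g.app U a) := rfl
    rw [h1, Scheme.basicOpen_res] at hx₁'
    have h2 := hx₁'.2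
    rw [← Scheme.preimage_basicOpen] at h2
    exact h2
  have hWU : X.basicOpen a ≤ U := X.basicOpen_le a
  refine ⟨X.basicOpen a, hWU.trans hUO, hxa, ?_⟩
  have hres : N.presheaf.map (homOfLE (hWU.trans hUO)).op σ =
      X.presheaf.map (homOfLE hWU).op a • N.presheaf.map (homOfLE hWU).op e := by
    rw [← QC.smul_res, ← ha, QC.res_res]
  rw [hres]
  exact ((he.mono hWU).smul_iff _).2 (QC.isUnit_res_of_le_basicOpen a hWU (le_refl _))

end

lemma exists_common_nbhd {Y : Scheme.{u}} (y : Y) {K : ℕ} (V' : Fin K → Y.Opens)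
    (h : ∀ j, y ∈ V' j) : ∃ V₀ : Y.Opens, y ∈ V₀ ∧ ∀ j, V₀ ≤ V' j :=
  ⟨⟨⋂ j, (V' j : Set Y), isOpen_iInter_of_finite (fun j => (V' j).2)⟩,
    Set.mem_iInter.mpr h, fun j _ hx => Set.mem_iInter.mp hx j⟩

section Spread

variable {X Y : Scheme.{u}} (f : X ⟶ Y) (y : Y) {X₁ : Scheme.{u}}
  (f₁ : X₁ ⟶ Spec (Y.presheaf.stalk y)) (g : X₁ ⟶ X)
  (hsq : IsPullback g f₁ f (Y.fromSpecStalk y))

include hsq in
/-- **spreading out global generation**: if `g^* L` is globally generated on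
`X ×_Y Spec O_{Y,y}` then `L` is globally generated over the preimage of a neighbourhood of `y`. -/
theorem exists_nbhd_isGloballyGenerated [IsProper f] (L : X.Modules) (hL : PicF.IsInvertible L)
    (h : Curv2.IsGloballyGenerated ((Scheme.Modules.pullback g).obj L)) :
    ∃ V : Y.Opens, y ∈ V ∧ Curv2.IsGloballyGenerated (L.restrict (f ⁻¹ᵁ V).ι) := by
  classical
  haveI : L.IsQuasicoherent := QC.qc_of_isInvertible L hL
  haveI : IsProper f₁ := MorphismProperty.of_isPullback hsq (inferInstance : IsProper f)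
  haveI : CompactSpace X₁ := QuasiCompact.compactSpace_of_compactSpace f₁
  have hinv : PicF.IsInvertible ((Scheme.Modules.pullback g).obj L) := QC.isInvertible_pullback g hL
  haveI : ((Scheme.Modules.pullback g).obj L).IsQuasicoherent := QC.qc_of_isInvertible _ hinv
  obtain ⟨K, p, hp⟩ := H5.GG.exists_epi_freeMod_of_isGloballyGenerated _
    (QC.isFiniteType_of_isInvertible _ hinv) h
  obtain ⟨s, hs⟩ := H5.VAmple.exists_generatedBy_of_epi _ hinv p hp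
  -- descend the sections to a neighbourhood
  choose V' hyV' σ hσ using fun j => exists_section_of_pullback f y f₁ g hsq L (s j)
  obtain ⟨V₀, hyV₀, hV₀⟩ := exists_common_nbhd y V' hyV'
  have hσ' : ∀ j, QC.pbSec g L (top_le_preimage f y f₁ g hsq V₀ hyV₀)
      (L.presheaf.map (homOfLE (f.preimage_mono (hV₀ j))).op (σ j)) = s j := by
    intro j
    rw [QC.pbSec_res g L (top_le_preimage f y f₁ g hsq (V' j) (hyV' j))
      (top_le_preimage f y f₁ g hsq V₀ hyV₀) (le_refl _) (f.preimage_mono (hV₀ j)) (σ j),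
      QC.res_self]
    exact hσ j
  -- the locus where one of the sections is a basis
  let 𝒲 : Set X.Opens := {W | ∃ (j : Fin K) (hW : W ≤ f ⁻¹ᵁ V₀),
    QC.IsBasisOver L W (L.presheaf.map (homOfLE hW).op
      (L.presheaf.map (homOfLE (f.preimage_mono (hV₀ j))).op (σ j)))}
  let G : X.Opens := sSup 𝒲
  have hGle : G ≤ f ⁻¹ᵁ V₀ := sSup_le fun W hW => by
    obtain ⟨_, hW', _⟩ := hW
    exact hW'
  have hfib : ∀ x : X, f x = y → x ∈ G := by
    intro x hx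
    obtain ⟨x₁, hx₁, -⟩ := Scheme.exists_preimage_of_isPullback hsq x
      (IsLocalRing.closedPoint (Y.presheaf.stalk y))
      (by rw [hx]; exact Scheme.fromSpecStalk_closedPoint.symm)
    obtain ⟨j, hj⟩ := H2.PUP.exists_mem_genLocus _ hinv s hs x₁
    obtain ⟨U₁, hxU₁, hb⟩ := (QC.mem_genLocus_iff _ _ x₁).mp hj
    rw [QC.val_homOfSection, ← hσ' j] at hb
    obtain ⟨W, hW, hxW, hWb⟩ := exists_basis_nbhd' g L hL (f ⁻¹ᵁ V₀) _
      (top_le_preimage f y f₁ g hsq V₀ hyV₀) x₁ U₁ hxU₁ hb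
    rw [← hx₁]
    exact TopologicalSpace.Opens.mem_sSup.2 ⟨W, ⟨j, hW, hWb⟩, hxW⟩
  have hclosed : IsClosed (f '' ((G : Set X)ᶜ)) := f.isClosedMap _ G.2.isClosed_compl
  let U : Y.Opens := ⟨(f '' ((G : Set X)ᶜ))ᶜ, hclosed.isOpen_compl⟩
  have hyU : y ∈ U := by
    rintro ⟨x, hxG, hxy⟩
    exact hxG (hfib x hxy)
  have hUG : f ⁻¹ᵁ U ≤ G := by
    intro x hx
    by_contra hxG
    exact hx ⟨x, hxG, rfl⟩
  refine ⟨U, hyU, ?_⟩
  -- global generation of the pullback to the open subscheme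
  have hι : ∀ z : (f ⁻¹ᵁ U).toScheme, (f ⁻¹ᵁ U).ι z ∈ G := fun z => hUG z.2
  have hle : (⊤ : (f ⁻¹ᵁ U).toScheme.Opens) ≤ (f ⁻¹ᵁ U).ι ⁻¹ᵁ (f ⁻¹ᵁ V₀) :=
    fun z _ => hGle (hι z)
  have hEpi : Epi (QC.homOfSections ((Scheme.Modules.pullback (f ⁻¹ᵁ U).ι).obj L)
      (fun j : Fin K => QC.pbSec (f ⁻¹ᵁ U).ι L hle
        (L.presheaf.map (homOfLE (f.preimage_mono (hV₀ j))).op (σ j)))) := by
    apply QC.epi_homOfSections_of_isBasisOver
    intro z
    obtain ⟨W, ⟨j, hW, hWb⟩, hzW⟩ := TopologicalSpace.Opens.mem_sSup.1 (hι z)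
    refine ⟨j, (f ⁻¹ᵁ U).ι ⁻¹ᵁ W, hzW, ?_⟩
    have h1 := QC.IsBasisOver.pullback (f ⁻¹ᵁ U).ι hWb (le_refl ((f ⁻¹ᵁ U).ι ⁻¹ᵁ W))
    rw [QC.pbSec_res (f ⁻¹ᵁ U).ι L hle (le_refl _) le_top hW] at h1
    exact h1
  have hgg := QC.isGloballyGenerated_of_epi_freeMod _ hEpi
  exact H5.GG.isGloballyGenerated_of_epi
    ((Scheme.Modules.restrictFunctorIsoPullback (f ⁻¹ᵁ U).ι).app L).inv inferInstance hgg

end Spread

/-- **S12489**. -/
theorem main {X Y : Scheme.{u}} (f : X ⟶ Y) [IsProper f]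
    (L : X.Modules) (hL : PicF.IsInvertible L) (y : Y)
    (h : Curv2.IsGloballyGenerated
      ((Scheme.Modules.pullback (pullback.fst f (Y.fromSpecStalk y))).obj L)) :
    ∃ V : Y.Opens, y ∈ V ∧ Curv2.IsGloballyGenerated (L.restrict (f ⁻¹ᵁ V).ι) :=
  exists_nbhd_isGloballyGenerated f y (pullback.snd f (Y.fromSpecStalk y))
    (pullback.fst f (Y.fromSpecStalk y)) (IsPullback.of_hasPullback _ _) L hL h

end Groth.Agent.LD.NF
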